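import Groth.Prelude.Def_AlgSpCov
import Groth.Agent.Lib.GpdRestrict14.Basic
import Groth.Agent.Lib.AlgSpDescent.OpenSource

/-!
# The largest open with a local property is invariant
-/

universe u

set_option linter.unusedVariables false
set_option backward.isDefEq.respectTransparency.types false
set_option backward.isDefEq.respectTransparency false

open CategoryTheory CategoryTheory.Limits AlgebraicGeometry

namespace Groth.Agent.InvLocus14

open AlgSp Groth.Agent.AlgSpace Groth.Agent.AlgSpDecent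

variable {S : Scheme.{u}}

/-- Restricting a covering notion to opens. -/
def Restricts (τ : CovNotion S) : Prop :=
  ∀ {R U O W : Sp S} (t : R ⟶ U) (o : O ⟶ R) (ι : W ⟶ U) (b : O ⟶ W),
    RepWith @IsOpenImmersion o → RepWith @IsOpenImmersion ι → o ≫ t = b ≫ ι →
    τ (fun _ : PUnit.{u + 1} => R) (fun _ => t) →
    Function.Surjective (Points.map b) → τ (fun _ : PUnit.{u + 1} => O) (fun _ => b)

theorem openImm_le_etale {F G : Sp S} {f : F ⟶ G} (h : RepWith @IsOpenImmersion f) :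
    RepWith @Etale f :=
  repWith_mono (fun A B g (hg : IsOpenImmersion g) => (inferInstance : Etale g)) h

theorem locP_restrict {P : MorphismProperty Scheme.{u}} {R U O W : Sp S} {t : R ⟶ U} {o : O ⟶ R}
    {ι : W ⟶ U} {b : O ⟶ W} (ho : RepWith @IsOpenImmersion o) (hι : RepWith @IsOpenImmersion ι)
    (w : o ≫ t = b ≫ ι) (ht : LocP P t) : LocP P b := fun A B a a' h ha ha' e =>
  ht (a ≫ o) (a' ≫ ι) h (repWith_comp ha (openImm_le_etale ho)) (repWith_comp ha' (openImm_le_etale hι))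
    (by rw [Category.assoc, w, ← Category.assoc, e, Category.assoc])

theorem isEtaleMor_restrict {R U O W : Sp S} {t : R ⟶ U} {o : O ⟶ R} {ι : W ⟶ U} [Mono ι] {b : O ⟶ W}
    (ho : RepWith @IsOpenImmersion o) (w : o ≫ t = b ≫ ι) (ht : IsEtaleMor t) : IsEtaleMor b := by
  intro A φ hφ
  have h : RepWith @Etale ((φ ≫ b) ≫ ι) := by
    rw [Category.assoc, ← w, ← Category.assoc]
    exact ht _ (repWith_comp hφ (openImm_le_etale ho))
  exact repWith_of_isPullback (IsPullback.of_horiz_isIso_mono ⟨(Category.id_comp _)⟩ :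
    IsPullback (𝟙 ((yon S).obj A)) (φ ≫ b) ((φ ≫ b) ≫ ι) ι) h

theorem restricts_of {τ : CovNotion S} (hτ : τ = IsFppfCover ∨ τ = IsEtCover ∨ τ = IsSmCover) :
    Restricts τ := by
  intro R U O W t o ι b ho hι w ht hb
  have : Mono ι := mono_of_isImmersion (repWith_mono (fun A B g (hg : IsOpenImmersion g) =>
    (inferInstance : IsImmersion g)) hι)
  have hsurj : ∀ x : Points W, ∃ _ : PUnit.{u + 1}, x ∈ Set.range (Points.map b) :=
    fun x => ⟨⟨⟩, hb x⟩
  rcases hτ with rfl | rfl | rfl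
  · exact ⟨fun _ => ⟨locP_restrict ho hι w (ht.1 ⟨⟩).1, locP_restrict ho hι w (ht.1 ⟨⟩).2⟩, hsurj⟩
  · exact ⟨fun _ => isEtaleMor_restrict ho w (ht.1 ⟨⟩), hsurj⟩
  · exact ⟨fun _ => locP_restrict ho hι w (ht.1 ⟨⟩), hsurj⟩

theorem isOpenMor_of_cover {τ : CovNotion S} (hτ : τ = IsFppfCover ∨ τ = IsEtCover ∨ τ = IsSmCover)
    {R U : Sp S} (hR : IsAlgSpace R) (hU : IsAlgSpace U) {t : R ⟶ U}
    (ht : τ (fun _ : PUnit.{u + 1} => R) (fun _ => t)) : IsOpenMor t := by
  have hf : IsFppfCover (fun _ : PUnit.{u + 1} => R) (fun _ => t) := by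
    rcases hτ with rfl | rfl | rfl
    · exact ht
    · exact ⟨fun _ => ⟨locP_of_isEtaleMor (ht.1 ⟨⟩), locP_of_isEtaleMor (ht.1 ⟨⟩)⟩, ht.2⟩
    · exact ⟨fun _ => ⟨locP_mono (fun A B g (hg : Smooth g) => (inferInstance : Flat g)) (ht.1 ⟨⟩),
        locP_mono (fun A B g (hg : Smooth g) => (inferInstance : LocallyOfFinitePresentation g))
          (ht.1 ⟨⟩)⟩, ht.2⟩
  exact AlgSpDescent.isOpenMor_of_bc hR hU (AlgSpDescent.bc_fppf_of_isFppfCover hU (fun _ => hR) hf ⟨⟩)

variable {τ : CovNotion S} {P : MorphismProperty (Sp S)}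

theorem step (hrest : Restricts τ) (hP : IsLocalOnBase τ P) {R U X W : Sp S} (hR : IsAlgSpace R)
    (hU : IsAlgSpace U) (hX : IsAlgSpace X) (f : X ⟶ U) (s t : R ⟶ U)
    (hs : τ (fun _ : PUnit.{u + 1} => R) (fun _ => s)) (ht : τ (fun _ : PUnit.{u + 1} => R) (fun _ => t))
    (hso : Function.Surjective (Points.map s)) (hto : IsOpenMor t)
    {Q : Sp S} {q : Q ⟶ R} {es et : Q ⟶ X} (sqs : IsPullback es q f s) (sqt : IsPullback et q f t)
    (hW : IsAlgSpace W) (w : W ⟶ U) (hw : RepWith @IsOpenImmersion w)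
    (hmax : ∀ (W' : Sp S) (w' : W' ⟶ U), IsAlgSpace W' → RepWith @IsOpenImmersion w' →
      (P (pullback.snd f w') ↔ ∃ k : W' ⟶ W, k ≫ w = w'))
    {T : Over S} (r : (yon S).obj T ⟶ R) (hr : ∃ a : (yon S).obj T ⟶ W, a ≫ w = r ≫ s) :
    ∃ a : (yon S).obj T ⟶ W, a ≫ w = r ≫ t := by
  let O := pullback w s
  let o : O ⟶ R := pullback.snd w s
  let a : O ⟶ W := pullback.fst w s
  have ho : RepWith @IsOpenImmersion o := repWith_of_isPullback (IsPullback.of_hasPullback w s) hw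
  have hOsp : IsAlgSpace O := isAlgSpace_of_representable ho.1 hR
  have hwo : IsOpen (Set.range (Points.map w)) := by
    refine Points.isOpen_iff.2 fun T g => ?_
    have sq := hw.1.isPullback g
    have : IsOpenImmersion (hw.1.snd g).left := hw.2 g _ _ sq
    have e : Points.ofPt g ⁻¹' Set.range (Points.map w) = Set.range (hw.1.snd g).left := by
      ext x
      constructor
      · rintro ⟨y, hy⟩
        obtain ⟨v, -, hv⟩ := exists_pt_of_isPullback sq hy
        exact ⟨v, hv⟩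
      · rintro ⟨v, rfl⟩
        exact ⟨Points.ofPt (hw.1.fst g) v, ofPt_sq sq.w v⟩
    rw [e]
    exact (hw.1.snd g).left.isOpenEmbedding.isOpen_range
  let V : Set (Points U) := Points.map t '' (Points.map s ⁻¹' Set.range (Points.map w))
  have hV : IsOpen V := hto _ (hwo.preimage (Points.continuous_map s))
  have hι := repWith_openSubι hV
  have hVsp : IsAlgSpace (openSub V) := isAlgSpace_of_representable hι.1 hU
  obtain ⟨b, hb⟩ := exists_factor_openSub (W := V) (o ≫ t) (by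
    rintro _ ⟨x, rfl⟩
    refine ⟨Points.map o x, ⟨Points.map a x, ?_⟩, (Points.map_comp _ _ _).symm⟩
    rw [← Points.map_comp, ← Points.map_comp, pullback.condition])
  have hιinj : Function.Injective (Points.map (openSubι V)) :=
    (isEmbedding_map_of_immersion hU (repWith_mono
      (fun A B g (hg : IsOpenImmersion g) => (inferInstance : IsImmersion g)) hι)).1.injective
  have lift : ∀ (y : Points R) (x : Points W), Points.map s y = Points.map w x →
      ∃ z : Points O, Points.map o z = y ∧ Points.map a z = x := fun y x e => by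
    obtain ⟨z, h₁, h₂⟩ := exists_point_lift (IsPullback.of_hasPullback w s) x y e.symm
    exact ⟨z, h₂, h₁⟩
  have hasurj : Function.Surjective (Points.map a) := fun x => by
    obtain ⟨y, hy⟩ := hso (Points.map w x)
    obtain ⟨z, -, hz⟩ := lift y x hy
    exact ⟨z, hz⟩
  have hbsurj : Function.Surjective (Points.map b) := fun x => by
    obtain ⟨y, ⟨x', hx'⟩, hy⟩ := (range_openSubι V).le ⟨x, rfl⟩
    obtain ⟨z, hz, -⟩ := lift y x' hx'.symm
    exact ⟨z, hιinj (by rw [← Points.map_comp, hb, Points.map_comp, hz, hy])⟩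
  have hca := hrest s o w a ho hw pullback.condition.symm hs hasurj
  have hcb := hrest t o (openSubι V) b ho hι hb.symm ht hbsurj
  -- the common base change
  let Z := pullback q o
  have sq₀ := IsPullback.of_hasPullback q o
  have base : ∀ {W' : Sp S} (w' : W' ⟶ U) (hW' : IsAlgSpace W') (b' : O ⟶ W') (e : Q ⟶ X) (u : R ⟶ U),
      IsPullback e q f u → b' ≫ w' = o ≫ u → τ (fun _ : PUnit.{u + 1} => O) (fun _ => b') →
      (P (pullback.snd f w') ↔ P (pullback.snd q o)) := by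
    intro W' w' hW' b' e u sq hb' hc
    have big : IsPullback (pullback.fst q o ≫ e) (pullback.snd q o) f (b' ≫ w') :=
      hb' ▸ sq₀.paste_horiz sq
    let m : Z ⟶ pullback f w' := pullback.lift (pullback.fst q o ≫ e) (pullback.snd q o ≫ b')
      (by rw [Category.assoc]; exact big.w.trans (Category.assoc _ _ _).symm)
    have sqm : IsPullback m (pullback.snd q o) (pullback.snd f w') b' := by
      refine IsPullback.of_right ?_ (pullback.lift_snd _ _ _) (IsPullback.of_hasPullback f w')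
      rw [show m ≫ pullback.fst f w' = pullback.fst q o ≫ e from pullback.lift_fst _ _ _]
      exact big
    have hXW : IsAlgSpace (pullback f w') :=
      isAlgSpace_pullback hU hX hW' (IsPullback.of_hasPullback f w')
    have hZ : IsAlgSpace Z := isAlgSpace_pullback hW' hXW hOsp sqm
    refine (hP (fun _ : PUnit.{u + 1} => O) (fun _ => b') hW' (fun _ => hOsp) hc (pullback.snd f w') hXW
      (fun _ => Z) (fun _ => pullback.snd q o) (fun _ => m) (fun _ => hZ) (fun _ => sqm)).trans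
      ⟨fun h => h ⟨⟩, fun h _ => h⟩
  have hPW : P (pullback.snd f w) := (hmax W w hW hw).2 ⟨𝟙 _, Category.id_comp _⟩
  have hPV : P (pullback.snd f (openSubι V)) := (base _ hVsp b et t sqt hb hcb).2
    ((base w hW a es s sqs pullback.condition hca).1 hPW)
  obtain ⟨k, hk⟩ := (hmax _ _ hVsp hι).1 hPV
  obtain ⟨c, hc⟩ := hr
  refine ⟨pullback.lift c r hc ≫ b ≫ k, ?_⟩
  rw [Category.assoc, Category.assoc, hk, hb, ← Category.assoc, pullback.lift_snd]

/-- The conclusion for a groupoid. -/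
theorem invariant (hτ : τ = IsFppfCover ∨ τ = IsEtCover ∨ τ = IsSmCover) (hP : IsLocalOnBase τ P)
    {B : Sp S} (G : GroupoidSp B) (hU : IsAlgSpace G.U) (hR : IsAlgSpace G.R)
    (hs : τ (fun _ : PUnit.{u + 1} => G.R) (fun _ => G.s))
    (ht : τ (fun _ : PUnit.{u + 1} => G.R) (fun _ => G.t)) {X W : Sp S} (hX : IsAlgSpace X)
    (f : X ⟶ G.U) {Q : Sp S} {q : Q ⟶ G.R} {es et : Q ⟶ X} (sqs : IsPullback es q f G.s)
    (sqt : IsPullback et q f G.t) (hW : IsAlgSpace W) (w : W ⟶ G.U) (hw : RepWith @IsOpenImmersion w)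
    (hmax : ∀ (W' : Sp S) (w' : W' ⟶ G.U), IsAlgSpace W' → RepWith @IsOpenImmersion w' →
      (P (pullback.snd f w') ↔ ∃ k : W' ⟶ W, k ≫ w = w')) : G.IsInvariant w := by
  intro T r
  have hsurj : ∀ (g : G.U ⟶ G.R) (u : G.R ⟶ G.U), g ≫ u = 𝟙 _ → Function.Surjective (Points.map u) :=
    fun g u e x => ⟨Points.map g x, by rw [← Points.map_comp, e, Points.map_id]⟩
  exact ⟨step (restricts_of hτ) hP hR hU hX f G.t G.s ht hs (hsurj _ _ G.e_t)
      (isOpenMor_of_cover hτ hR hU hs) sqt sqs hW w hw hmax r,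
    step (restricts_of hτ) hP hR hU hX f G.s G.t hs ht (hsurj _ _ G.e_s)
      (isOpenMor_of_cover hτ hR hU ht) sqs sqt hW w hw hmax r⟩

/-! ## The stabilizer -/

variable {B : Sp S} {G : GroupoidSp B}

theorem conj_abs {T : Sp S} (r ri g ε : T ⟶ G.R) (hi : ri ≫ G.s = r ≫ G.t) (hit : ri ≫ G.t = r ≫ G.s)
    (hl : cmp G ri r hi = ε) (hεt : ε = g ≫ G.t ≫ G.e) (hεs : ε = g ≫ G.s ≫ G.e)
    (h₁ : r ≫ G.s = g ≫ G.t) (h₂ : cmp G r g h₁ ≫ G.s = ri ≫ G.t)
    (h₃ : ri ≫ G.s = cmp G (cmp G r g h₁) ri h₂ ≫ G.t)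
    (h₄ : cmp G ri (cmp G (cmp G r g h₁) ri h₂) h₃ ≫ G.s = r ≫ G.t) :
    cmp G (cmp G ri (cmp G (cmp G r g h₁) ri h₂) h₃) r h₄ = g := by
  have a₁ := cmp_assoc ri r g hi h₁
  have p₁ : ri ≫ G.s = cmp G r g h₁ ≫ G.t := hi.trans (cmp_t r g h₁).symm
  have a₂ := cmp_assoc ri (cmp G r g h₁) ri p₁ h₂
  have q₁ : cmp G (cmp G ri r hi) g ((cmp_s ri r hi).trans h₁) = g :=
    cmp_id_left (hl.trans hεt) _
  have k : cmp G ri (cmp G r g h₁) p₁ = g := a₁.symm.trans q₁
  have g1 : g ≫ G.s = ri ≫ G.t := (cmp_s r g h₁).symm.trans h₂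
  have k₂ : cmp G ri (cmp G (cmp G r g h₁) ri h₂) h₃ = cmp G g ri g1 :=
    a₂.symm.trans (cmp_congr k rfl _)
  have a₃ := cmp_assoc g ri r g1 hi
  exact (cmp_congr k₂ rfl h₄).trans (a₃.trans (cmp_id_right (hl.trans hεs) _))

theorem conj_inv {T : Sp S} (r g : T ⟶ G.R) (hs : g ≫ G.s = r ≫ G.s) (ht : g ≫ G.t = r ≫ G.s) :
    ∀ h₁ h₂ h₃ h₄, cmp G (cmp G (r ≫ G.i) (cmp G (cmp G r g h₁) (r ≫ G.i) h₂) h₃) r h₄ = g :=
  fun h₁ h₂ h₃ h₄ => conj_abs r (r ≫ G.i) g (r ≫ G.s ≫ G.e)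
    ((Category.assoc _ _ _).trans (congrArg (r ≫ ·) G.i_s))
    ((Category.assoc _ _ _).trans (congrArg (r ≫ ·) G.i_t)) (cmp_inv_left r)
    ((Category.assoc _ _ _).symm.trans ((congrArg (· ≫ G.e) ht.symm).trans (Category.assoc _ _ _)))
    ((Category.assoc _ _ _).symm.trans ((congrArg (· ≫ G.e) hs.symm).trans (Category.assoc _ _ _)))
    h₁ h₂ h₃ h₄

theorem conj_inv' {T : Sp S} (r g : T ⟶ G.R) (hs : g ≫ G.s = r ≫ G.t) (ht : g ≫ G.t = r ≫ G.t) :
    ∀ h₁ h₂ h₃ h₄, cmp G (cmp G r (cmp G (cmp G (r ≫ G.i) g h₁) r h₂) h₃) (r ≫ G.i) h₄ = g := by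
  intro h₁ h₂ h₃ h₄
  have hi : (r ≫ G.i) ≫ G.s = r ≫ G.t := by rw [Category.assoc, G.i_s]
  have hit : (r ≫ G.i) ≫ G.t = r ≫ G.s := by rw [Category.assoc, G.i_t]
  have k₁ : cmp G r (cmp G (r ≫ G.i) g h₁) (by rw [cmp_t, hit]) = g := by
    rw [← cmp_assoc _ _ _ hit.symm h₁]
    exact cmp_id_left (by rw [cmp_inv_right, ← Category.assoc, ← ht, Category.assoc]) _
  have k₂ : cmp G r (cmp G (cmp G (r ≫ G.i) g h₁) r h₂) h₃ = cmp G g r hs := by
    rw [← cmp_assoc _ _ _ (by rw [cmp_t, hit]) h₂]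
    exact cmp_congr k₁ rfl _
  rw [cmp_congr k₂ rfl h₄, cmp_assoc _ _ _ hs hit.symm]
  exact cmp_id_right (by rw [cmp_inv_right, ← Category.assoc, ← hs, Category.assoc]) _

/-- A point of the stabilizer. -/
noncomputable def mkStab {T : Sp S} (g : T ⟶ G.R) (x : T ⟶ G.U) (ht : g ≫ G.t = x) (hs : g ≫ G.s = x) :
    T ⟶ G.stabilizer :=
  pullback.lift g x (by
    apply pullback.hom_ext <;>
      simp [GroupoidSp.diag, ht, hs, pullback.lift_fst, pullback.lift_snd])

theorem stab_s : G.stabilizerι ≫ G.s = G.stabilizerToU := by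
  have := congrArg (· ≫ pullback.snd G.pU G.pU) (pullback.condition (f := G.j) (g := G.diag))
  simpa [GroupoidSp.stabilizerι, GroupoidSp.stabilizerToU, GroupoidSp.diag, pullback.lift_snd] using this

theorem stab_t : G.stabilizerι ≫ G.t = G.stabilizerToU := by
  have := congrArg (· ≫ pullback.fst G.pU G.pU) (pullback.condition (f := G.j) (g := G.diag))
  simpa [GroupoidSp.stabilizerι, GroupoidSp.stabilizerToU, GroupoidSp.diag, pullback.lift_fst] using this

theorem isPullback_conj :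
    ∃ et : pullback G.stabilizerToU G.s ⟶ G.stabilizer,
      IsPullback et (pullback.snd G.stabilizerToU G.s) G.stabilizerToU G.t := by
  let Q := pullback G.stabilizerToU G.s
  let r : Q ⟶ G.R := pullback.snd _ _
  let g : Q ⟶ G.R := pullback.fst _ _ ≫ G.stabilizerι
  have hs : g ≫ G.s = r ≫ G.s := by rw [Category.assoc, stab_s]; exact pullback.condition
  have ht : g ≫ G.t = r ≫ G.s := by rw [Category.assoc, stab_t]; exact pullback.condition
  have h₁ : r ≫ G.s = g ≫ G.t := ht.symm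
  have h₂ : cmp G r g h₁ ≫ G.s = (r ≫ G.i) ≫ G.t := by rw [cmp_s, hs, Category.assoc, G.i_t]
  let et := mkStab (cmp G (cmp G r g h₁) (r ≫ G.i) h₂) (r ≫ G.t) (by rw [cmp_t, cmp_t])
    (by rw [cmp_s, Category.assoc, G.i_s])
  have et₁ : et ≫ G.stabilizerι = cmp G (cmp G r g h₁) (r ≫ G.i) h₂ := pullback.lift_fst _ _ _
  have et₂ : et ≫ G.stabilizerToU = r ≫ G.t := pullback.lift_snd _ _ _
  -- the inverse
  let Q' := pullback G.stabilizerToU G.t
  let r' : Q' ⟶ G.R := pullback.snd _ _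
  let g' : Q' ⟶ G.R := pullback.fst _ _ ≫ G.stabilizerι
  have hs' : g' ≫ G.s = r' ≫ G.t := by rw [Category.assoc, stab_s]; exact pullback.condition
  have ht' : g' ≫ G.t = r' ≫ G.t := by rw [Category.assoc, stab_t]; exact pullback.condition
  have h₁' : (r' ≫ G.i) ≫ G.s = g' ≫ G.t := by rw [Category.assoc, G.i_s, ht']
  have h₂' : cmp G (r' ≫ G.i) g' h₁' ≫ G.s = r' ≫ G.t := by rw [cmp_s, hs']
  let es := mkStab (cmp G (cmp G (r' ≫ G.i) g' h₁') r' h₂') (r' ≫ G.s)
    (by rw [cmp_t, cmp_t, Category.assoc, G.i_t]) (by rw [cmp_s])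
  have es₁ : es ≫ G.stabilizerι = cmp G (cmp G (r' ≫ G.i) g' h₁') r' h₂' := pullback.lift_fst _ _ _
  have es₂ : es ≫ G.stabilizerToU = r' ≫ G.s := pullback.lift_snd _ _ _
  let c : Q ⟶ Q' := pullback.lift et r et₂
  let d : Q' ⟶ Q := pullback.lift es r' es₂
  have cr : c ≫ r' = r := pullback.lift_snd _ _ _
  have dr : d ≫ r = r' := pullback.lift_snd _ _ _
  have cg : c ≫ g' = cmp G (cmp G r g h₁) (r ≫ G.i) h₂ := by
    rw [← et₁, ← Category.assoc]; congr 1; exact pullback.lift_fst _ _ _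
  have dg : d ≫ g = cmp G (cmp G (r' ≫ G.i) g' h₁') r' h₂' := by
    rw [← es₁, ← Category.assoc]; congr 1; exact pullback.lift_fst _ _ _
  have cd : c ≫ d = 𝟙 Q := by
    refine pullback.hom_ext (pullback.hom_ext ?_ ?_) ?_
    · rw [Category.id_comp, Category.assoc c d, pullback.lift_fst]
      show (c ≫ es) ≫ G.stabilizerι = pullback.fst _ _ ≫ G.stabilizerι
      rw [Category.assoc, es₁, cmp_nat, cmp_congr (cmp_nat _ _ _ _) cr,
        cmp_congr (cmp_congr (by rw [← Category.assoc, cr]) cg _) rfl]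
      exact conj_inv r g hs ht _ _ _ _
    · rw [Category.id_comp, Category.assoc c d, pullback.lift_fst]
      show (c ≫ es) ≫ G.stabilizerToU = pullback.fst _ _ ≫ G.stabilizerToU
      rw [Category.assoc, es₂, ← Category.assoc, cr]
      exact pullback.condition.symm
    · rw [Category.id_comp, Category.assoc, pullback.lift_snd]; exact cr
  have dc : d ≫ c = 𝟙 Q' := by
    refine pullback.hom_ext (pullback.hom_ext ?_ ?_) ?_
    · rw [Category.id_comp, Category.assoc d c, pullback.lift_fst]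
      show (d ≫ et) ≫ G.stabilizerι = pullback.fst _ _ ≫ G.stabilizerι
      rw [Category.assoc, et₁, cmp_nat, cmp_congr (cmp_nat _ _ _ _) (show d ≫ r ≫ G.i = r' ≫ G.i by
        rw [← Category.assoc, dr]), cmp_congr (cmp_congr dr dg _) rfl]
      exact conj_inv' r' g' hs' ht' _ _ _ _
    · rw [Category.id_comp, Category.assoc d c, pullback.lift_fst]
      show (d ≫ et) ≫ G.stabilizerToU = pullback.fst _ _ ≫ G.stabilizerToU
      rw [Category.assoc, et₂, ← Category.assoc, dr]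
      exact pullback.condition.symm
    · rw [Category.id_comp, Category.assoc, pullback.lift_snd]; exact dr
  exact ⟨et, IsPullback.of_iso_pullback ⟨et₂⟩ ⟨c, d, cd, dc⟩ (pullback.lift_fst _ _ _) (pullback.lift_snd _ _ _)⟩

theorem isAlgSpace_stabilizer (hB : IsAlgSpace B) (hU : IsAlgSpace G.U) (hR : IsAlgSpace G.R) :
    IsAlgSpace G.stabilizer :=
  isAlgSpace_pullback (isAlgSpace_pullback hB hU hU (IsPullback.of_hasPullback G.pU G.pU)) hR hU
    (IsPullback.of_hasPullback G.j G.diag)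

end Groth.Agent.InvLocus14
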